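import Mathlib
import Cfsg.Agent.Helper96.StPresA

/-!
# The Steinberg relations of type `A` in an abstract group: definitions

A family `X i j t` (`i ≠ j` indices, `t` in a field `K`) of elements of a group `D` satisfying the
Steinberg relations of `SL_n`; the elements `w_ij(t)`, `h_ij(t)`; "monomial" elements.
-/

set_option autoImplicit false

namespace Cfsg.Agent.Helper96.StN

variable {K : Type*} [Field K] {D : Type*} [Group D] {ι : Type*}

/-- the Steinberg relations of type `A` for a family `X i j t`, `i ≠ j` -/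
structure StRel (X : ι → ι → K → D) : Prop where
  add : ∀ i j, i ≠ j → ∀ t u, X i j (t + u) = X i j t * X i j u
  comm : ∀ i j k l, i ≠ j → k ≠ l → j ≠ k → i ≠ l → ∀ t u,
    X i j t * X k l u = X k l u * X i j t
  mul : ∀ i j l, i ≠ j → j ≠ l → i ≠ l → ∀ t u,
    X i j t * X j l u * (X i j t)⁻¹ * (X j l u)⁻¹ = X i l (t * u)

/-- `w_ij(t) = x_ij(t) x_ji(-t⁻¹) x_ij(t)` -/
def W (X : ι → ι → K → D) (i j : ι) (t : K) : D := X i j t * X j i (-t⁻¹) * X i j t

/-- `h_ij(t) = w_ij(t) w_ij(1)⁻¹` -/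
def Hd (X : ι → ι → K → D) (i j : ι) (t : K) : D := W X i j t * (W X i j 1)⁻¹

/-- the rank one family attached to a pair of indices -/
def pair (X : ι → ι → K → D) (i j : ι) : Bool → K → D := fun b => cond b (X i j) (X j i)

@[simp] theorem pair_true (X : ι → ι → K → D) (i j : ι) (t : K) : pair X i j true t = X i j t := rfl

@[simp] theorem pair_false (X : ι → ι → K → D) (i j : ι) (t : K) : pair X i j false t = X j i t := rfl

theorem Wd_pair_true (X : ι → ι → K → D) (i j : ι) (t : K) :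
    StPres.Wd (pair X i j) true t = W X i j t := rfl

theorem Wd_pair_false (X : ι → ι → K → D) (i j : ι) (t : K) :
    StPres.Wd (pair X i j) false t = W X j i t := rfl

theorem hd_pair (X : ι → ι → K → D) (i j : ι) (t : K) :
    StPres.hd (pair X i j) t = Hd X i j t := rfl

/-- `g` normalizes the root subgroups like the monomial matrix `e_k ↦ p k • e_(π k)` -/
def IsMono (X : ι → ι → K → D) (g : D) (π : Equiv.Perm ι) (p : ι → K) : Prop :=
  (∀ k, p k ≠ 0) ∧ ∀ k l, k ≠ l → ∀ u, g * X k l u * g⁻¹ = X (π k) (π l) (p k * (p l)⁻¹ * u)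

/-- the coefficients of `w_ij(t)`: `e_i ↦ -t⁻¹ e_j`, `e_j ↦ t e_i` -/
def wp [DecidableEq ι] (i j : ι) (t : K) : ι → K :=
  fun k => if k = i then -t⁻¹ else if k = j then t else 1

/-- the coefficients of `h_ij(t)`: `e_i ↦ t e_i`, `e_j ↦ t⁻¹ e_j` -/
def hp [DecidableEq ι] (i j : ι) (t : K) : ι → K :=
  fun k => if k = i then t else if k = j then t⁻¹ else 1

theorem IsMono.one (X : ι → ι → K → D) : IsMono X 1 1 (fun _ => 1) := by
  refine ⟨fun _ => one_ne_zero, fun k l _ u => ?_⟩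
  simp

theorem IsMono.mul {X : ι → ι → K → D} {g g' : D} {π π' : Equiv.Perm ι} {p p' : ι → K}
    (h : IsMono X g π p) (h' : IsMono X g' π' p') :
    IsMono X (g * g') (π * π') (fun k => p (π' k) * p' k) := by
  refine ⟨fun k => mul_ne_zero (h.1 _) (h'.1 _), fun k l hkl u => ?_⟩
  have h1 : g * g' * X k l u * (g * g')⁻¹ = g * (g' * X k l u * g'⁻¹) * g⁻¹ := by group
  rw [h1, h'.2 k l hkl u, h.2 _ _ (fun e => hkl (π'.injective e))]
  congr 1
  have := h.1 (π' l); have := h'.1 l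
  field_simp

theorem IsMono.inv {X : ι → ι → K → D} {g : D} {π : Equiv.Perm ι} {p : ι → K}
    (h : IsMono X g π p) : IsMono X g⁻¹ π⁻¹ (fun k => (p (π⁻¹ k))⁻¹) := by
  refine ⟨fun k => inv_ne_zero (h.1 _), fun k l hkl u => ?_⟩
  have hkl' : π⁻¹ k ≠ π⁻¹ l := fun e => hkl (π⁻¹.injective e)
  have h1 := h.2 (π⁻¹ k) (π⁻¹ l) hkl' ((p (π⁻¹ k))⁻¹ * ((p (π⁻¹ l))⁻¹)⁻¹ * u)
  have e1 : ∀ m, π (π⁻¹ m) = m := fun m => by simp
  rw [e1, e1] at h1
  have h2 : p (π⁻¹ k) * (p (π⁻¹ l))⁻¹ * ((p (π⁻¹ k))⁻¹ * ((p (π⁻¹ l))⁻¹)⁻¹ * u) = u := by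
    have := h.1 (π⁻¹ k); have := h.1 (π⁻¹ l)
    field_simp
  rw [h2] at h1
  rw [← h1]
  simp only [inv_inv]
  group

section subgroups

/-- the subgroup generated by the positive root elements -/
def Upos [LT ι] (X : ι → ι → K → D) : Subgroup D :=
  Subgroup.closure {g | ∃ i j, i < j ∧ ∃ t, g = X i j t}

/-- the subgroup generated by the `w_ij(t)` -/
def Nsub (X : ι → ι → K → D) : Subgroup D :=
  Subgroup.closure {g | ∃ i j, i ≠ j ∧ ∃ t, t ≠ 0 ∧ g = W X i j t}

/-- the subgroup generated by the `h_ij(t)` -/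
def Hsub (X : ι → ι → K → D) : Subgroup D :=
  Subgroup.closure {g | ∃ i j, i ≠ j ∧ ∃ t, t ≠ 0 ∧ g = Hd X i j t}

end subgroups

section basic

variable {X : ι → ι → K → D} (hX : StRel X)

include hX

theorem X_zero {i j : ι} (hij : i ≠ j) : X i j 0 = 1 := by
  have h := hX.add i j hij 0 0
  rw [add_zero] at h
  exact left_eq_mul.mp h

theorem X_neg {i j : ι} (hij : i ≠ j) (t : K) : (X i j t)⁻¹ = X i j (-t) := by
  rw [inv_eq_iff_mul_eq_one, ← hX.add i j hij, add_neg_cancel, X_zero hX hij]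

theorem X_comm_same {i j : ι} (hij : i ≠ j) (t u : K) : X i j t * X i j u = X i j u * X i j t := by
  rw [← hX.add i j hij, ← hX.add i j hij, add_comm]

theorem W_inv {i j : ι} (hij : i ≠ j) (t : K) : (W X i j t)⁻¹ = W X i j (-t) := by
  unfold W
  rw [mul_inv_rev, mul_inv_rev, X_neg hX hij, X_neg hX hij.symm, mul_assoc, inv_neg, neg_neg]

/-- the opposite family `X j i (-t)` satisfies the relations as well -/
theorem opp : StRel (fun i j t => X j i (-t)) where
  add i j hij t u := by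
    rw [neg_add, hX.add j i hij.symm]
  comm i j k l hij hkl hjk hil t u := hX.comm j i l k hij.symm hkl.symm hil hjk _ _
  mul i j l hij hjl hil t u := by
    have h := hX.mul l j i hjl.symm hij.symm hil.symm (-u) (-t)
    rw [neg_mul_neg] at h
    have h2 : X j i (-t) * X l j (-u) * (X j i (-t))⁻¹ * (X l j (-u))⁻¹ =
        (X l j (-u) * X j i (-t) * (X l j (-u))⁻¹ * (X j i (-t))⁻¹)⁻¹ := by group
    rw [h2, h, X_neg hX hil.symm, mul_comm]

end basic

end Cfsg.Agent.Helper96.StN
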