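import Mathlib
import Cfsg.Agent.Helper96.StN.Defs

/-!
# Conjugation of root elements by `w_ij(t)` and `h_ij(t)`
-/

set_option autoImplicit false

namespace Cfsg.Agent.Helper96.StN

variable {K : Type*} [Field K] {D : Type*} [Group D] {ι : Type*} {X : ι → ι → K → D}

/-- `w_ij(t)` for the opposite family -/
theorem W_opp (i j : ι) (t : K) : W (fun i j t => X j i (-t)) i j t = W X j i (-t) := by
  unfold W
  simp only [neg_neg, inv_neg]

section conj

variable (hX : StRel X)

include hX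

theorem mul_conj {i j l : ι} (hij : i ≠ j) (hjl : j ≠ l) (hil : i ≠ l) (t u : K) :
    X i j t * X j l u * (X i j t)⁻¹ = X i l (t * u) * X j l u := by
  rw [← hX.mul i j l hij hjl hil t u]
  group

theorem mul_conj' {i j l : ι} (hij : i ≠ j) (hjl : j ≠ l) (hil : i ≠ l) (t u : K) :
    X j l u * X i j t * (X j l u)⁻¹ = X i l (-(t * u)) * X i j t := by
  rw [← X_neg hX hil, ← hX.mul i j l hij hjl hil t u]
  group

theorem comm_conj {i j k l : ι} (hij : i ≠ j) (hkl : k ≠ l) (hjk : j ≠ k) (hil : i ≠ l) (t u : K) :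
    X i j t * X k l u * (X i j t)⁻¹ = X k l u := by
  rw [hX.comm i j k l hij hkl hjk hil t u]
  group

/-- case `(i, k)`: `w_ij(t) x_ik(u) w_ij(t)⁻¹ = x_jk(-t⁻¹u)` -/
theorem W_conj_ik {i j k : ι} (hij : i ≠ j) (hik : i ≠ k) (hjk : j ≠ k) {t : K} (ht : t ≠ 0) (u : K) :
    W X i j t * X i k u * (W X i j t)⁻¹ = X j k (-t⁻¹ * u) := by
  have e : W X i j t * X i k u * (W X i j t)⁻¹ =
      X i j t * (X j i (-t⁻¹) * (X i j t * X i k u * (X i j t)⁻¹) * (X j i (-t⁻¹))⁻¹) *
        (X i j t)⁻¹ := by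
    unfold W; group
  rw [e, comm_conj hX hij hik hij.symm hik, mul_conj hX hij.symm hik hjk]
  have e2 : X i j t * (X j k (-t⁻¹ * u) * X i k u) * (X i j t)⁻¹ =
      (X i j t * X j k (-t⁻¹ * u) * (X i j t)⁻¹) * (X i j t * X i k u * (X i j t)⁻¹) := by group
  rw [e2, comm_conj hX hij hik hij.symm hik, mul_conj hX hij hjk hik]
  have e3 : t * (-t⁻¹ * u) = -u := by field_simp
  rw [e3, hX.comm i k j k hik hjk hjk.symm hik, mul_assoc, ← hX.add i k hik, neg_add_cancel,
    X_zero hX hik, mul_one]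

/-- case `(j, k)`: `w_ij(t) x_jk(u) w_ij(t)⁻¹ = x_ik(tu)` -/
theorem W_conj_jk {i j k : ι} (hij : i ≠ j) (hik : i ≠ k) (hjk : j ≠ k) {t : K} (ht : t ≠ 0) (u : K) :
    W X i j t * X j k u * (W X i j t)⁻¹ = X i k (t * u) := by
  have e : W X i j t * X j k u * (W X i j t)⁻¹ =
      X i j t * (X j i (-t⁻¹) * (X i j t * X j k u * (X i j t)⁻¹) * (X j i (-t⁻¹))⁻¹) *
        (X i j t)⁻¹ := by
    unfold W; group
  have e2 : X j i (-t⁻¹) * (X i k (t * u) * X j k u) * (X j i (-t⁻¹))⁻¹ =
      (X j i (-t⁻¹) * X i k (t * u) * (X j i (-t⁻¹))⁻¹) *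
        (X j i (-t⁻¹) * X j k u * (X j i (-t⁻¹))⁻¹) := by group
  have e3 : -t⁻¹ * (t * u) = -u := by field_simp
  have inner : X j i (-t⁻¹) * (X i j t * X j k u * (X i j t)⁻¹) * (X j i (-t⁻¹))⁻¹ =
      X i k (t * u) := by
    rw [mul_conj hX hij hjk hik, e2, mul_conj hX hij.symm hik hjk,
      comm_conj hX hij.symm hjk hij hjk, e3, hX.comm j k i k hjk hik hik.symm hjk, mul_assoc,
      ← hX.add j k hjk, neg_add_cancel, X_zero hX hjk, mul_one]
  rw [e, inner, comm_conj hX hij hik hij.symm hik]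

/-- case `(k, j)`: `w_ij(t) x_kj(u) w_ij(t)⁻¹ = x_ki(t⁻¹u)` -/
theorem W_conj_kj {i j k : ι} (hij : i ≠ j) (hik : i ≠ k) (hjk : j ≠ k) {t : K} (ht : t ≠ 0) (u : K) :
    W X i j t * X k j u * (W X i j t)⁻¹ = X k i (t⁻¹ * u) := by
  have ho : StRel (fun i j t => X j i (-t)) := opp hX
  have h := W_conj_ik ho hij.symm hjk hik (neg_ne_zero.mpr ht) (-u)
  rw [W_opp] at h
  simp only [neg_neg] at h
  rw [h]
  congr 1
  rw [inv_neg]; ring

/-- case `(k, i)`: `w_ij(t) x_ki(u) w_ij(t)⁻¹ = x_kj(-tu)` -/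
theorem W_conj_ki {i j k : ι} (hij : i ≠ j) (hik : i ≠ k) (hjk : j ≠ k) {t : K} (ht : t ≠ 0) (u : K) :
    W X i j t * X k i u * (W X i j t)⁻¹ = X k j (-(t * u)) := by
  have ho : StRel (fun i j t => X j i (-t)) := opp hX
  have h := W_conj_jk ho hij.symm hjk hik (neg_ne_zero.mpr ht) (-u)
  rw [W_opp] at h
  simp only [neg_neg] at h
  rw [h]
  congr 1
  ring

/-- disjoint case -/
theorem W_conj_disj {i j k l : ι} (hij : i ≠ j) (hkl : k ≠ l) (hik : i ≠ k) (hil : i ≠ l)
    (hjk : j ≠ k) (hjl : j ≠ l) (t u : K) :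
    W X i j t * X k l u * (W X i j t)⁻¹ = X k l u := by
  have e : W X i j t * X k l u * (W X i j t)⁻¹ =
      X i j t * (X j i (-t⁻¹) * (X i j t * X k l u * (X i j t)⁻¹) * (X j i (-t⁻¹))⁻¹) *
        (X i j t)⁻¹ := by
    unfold W; group
  rw [e, comm_conj hX hij hkl hjk hil, comm_conj hX hij.symm hkl hik hjl,
    comm_conj hX hij hkl hjk hil]

/-- same root: `w_ij(t) x_ij(u) w_ij(t)⁻¹ = x_ji(-t⁻²u)` (needs a third index `m`) -/
theorem W_conj_ij {i j m : ι} (hij : i ≠ j) (him : i ≠ m) (hjm : j ≠ m) {t : K} (ht : t ≠ 0)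
    (u : K) : W X i j t * X i j u * (W X i j t)⁻¹ = X j i (-(t⁻¹ ^ 2 * u)) := by
  have h0 := hX.mul i m j him hjm.symm hij u 1
  rw [mul_one] at h0
  rw [← h0]
  have e : W X i j t * (X i m u * X m j 1 * (X i m u)⁻¹ * (X m j 1)⁻¹) * (W X i j t)⁻¹ =
      (W X i j t * X i m u * (W X i j t)⁻¹) * (W X i j t * X m j 1 * (W X i j t)⁻¹) *
        (W X i j t * X i m u * (W X i j t)⁻¹)⁻¹ * (W X i j t * X m j 1 * (W X i j t)⁻¹)⁻¹ := by
    group
  rw [e, W_conj_ik hX hij him hjm ht, W_conj_kj hX hij him hjm ht,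
    hX.mul j m i hjm him.symm hij.symm]
  congr 1
  field_simp

end conj

section mono

variable [DecidableEq ι] (hX : StRel X) (h3 : ∀ i j : ι, ∃ k, k ≠ i ∧ k ≠ j)

include hX h3

/-- the rank one relations hold for every pair of indices -/
theorem pair_rel {i j : ι} (hij : i ≠ j) : StPres.Rel (pair X i j) where
  add b t u := by
    cases b
    · exact hX.add j i hij.symm t u
    · exact hX.add i j hij t u
  conj b t u ht := by
    cases b
    · obtain ⟨m, hmi, hmj⟩ := h3 i j
      rw [Wd_pair_false]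
      exact W_conj_ij hX hij.symm hmj.symm hmi.symm ht u
    · obtain ⟨m, hmi, hmj⟩ := h3 i j
      rw [Wd_pair_true]
      exact W_conj_ij hX hij hmi.symm hmj.symm ht u

theorem W_swap {i j : ι} (hij : i ≠ j) {t : K} (ht : t ≠ 0) : W X i j t = W X j i (-t⁻¹) := by
  have h := StPres.W_swap (pair_rel hX h3 hij) true t ht
  rw [Wd_pair_true, Bool.not_true, Wd_pair_false] at h
  exact h

/-- opposite root: `w_ij(t) x_ji(u) w_ij(t)⁻¹ = x_ij(-t²u)` -/
theorem W_conj_ji {i j : ι} (hij : i ≠ j) {t : K} (ht : t ≠ 0) (u : K) :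
    W X i j t * X j i u * (W X i j t)⁻¹ = X i j (-(t ^ 2 * u)) := by
  have h := StPres.conj' (pair_rel hX h3 hij) true t u ht
  rw [Wd_pair_true] at h
  exact h

theorem W_isMono {i j : ι} (hij : i ≠ j) {t : K} (ht : t ≠ 0) :
    IsMono X (W X i j t) (Equiv.swap i j) (wp i j t) := by
  refine ⟨fun k => ?_, fun k l hkl u => ?_⟩
  · unfold wp
    split_ifs
    · exact neg_ne_zero.mpr (inv_ne_zero ht)
    · exact ht
    · exact one_ne_zero
  · by_cases hki : k = i
    · subst hki
      by_cases hlj : l = j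
      · subst hlj
        obtain ⟨m, hmi, hmj⟩ := h3 k l
        rw [W_conj_ij hX hij hmi.symm hmj.symm ht, Equiv.swap_apply_left, Equiv.swap_apply_right]
        congr 1
        simp only [wp, if_true, if_neg hij.symm]
        field_simp
      · have hlk : l ≠ k := fun e => hkl e.symm
        rw [W_conj_ik hX hij hkl (Ne.symm hlj) ht, Equiv.swap_apply_left,
          Equiv.swap_apply_of_ne_of_ne hlk hlj]
        congr 1
        simp only [wp, if_true, if_neg hlk, if_neg hlj]
        field_simp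
    · by_cases hkj : k = j
      · subst hkj
        by_cases hli : l = i
        · subst hli
          rw [W_conj_ji hX h3 hij ht, Equiv.swap_apply_left, Equiv.swap_apply_right]
          congr 1
          simp only [wp, if_true, if_neg hij.symm]
          field_simp
        · rw [W_conj_jk hX hij (Ne.symm hli) hkl ht, Equiv.swap_apply_right,
            Equiv.swap_apply_of_ne_of_ne hli (Ne.symm hkl)]
          congr 1
          simp only [wp, if_true, if_neg hij.symm, if_neg hli, if_neg (Ne.symm hkl)]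
          field_simp
      · by_cases hli : l = i
        · subst hli
          rw [W_conj_ki hX hij (Ne.symm hki) (Ne.symm hkj) ht,
            Equiv.swap_apply_of_ne_of_ne hki hkj, Equiv.swap_apply_left]
          congr 1
          simp only [wp, if_true, if_neg hki, if_neg hkj]
          field_simp
        · by_cases hlj : l = j
          · subst hlj
            rw [W_conj_kj hX hij (Ne.symm hki) (Ne.symm hkj) ht,
              Equiv.swap_apply_of_ne_of_ne hki hkj, Equiv.swap_apply_right]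
            congr 1
            simp only [wp, if_true, if_neg hki, if_neg hkj, if_neg hij.symm]
            field_simp
          · rw [W_conj_disj hX hij hkl (Ne.symm hki) (Ne.symm hli) (Ne.symm hkj) (Ne.symm hlj),
              Equiv.swap_apply_of_ne_of_ne hki hkj, Equiv.swap_apply_of_ne_of_ne hli hlj]
            congr 1
            simp only [wp, if_neg hki, if_neg hkj, if_neg hli, if_neg hlj]
            simp

theorem Hd_isMono {i j : ι} (hij : i ≠ j) {t : K} (ht : t ≠ 0) :
    IsMono X (Hd X i j t) 1 (hp i j t) := by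
  have h1 := W_isMono hX h3 hij ht
  have h2 := (W_isMono hX h3 hij (one_ne_zero (α := K))).inv
  have h := h1.mul h2
  have e1 : Equiv.swap i j * (Equiv.swap i j)⁻¹ = 1 := mul_inv_cancel _
  rw [e1] at h
  have e2 : (fun k => wp i j t ((Equiv.swap i j)⁻¹ k) *
      (wp i j (1 : K) ((Equiv.swap i j)⁻¹ k))⁻¹) = hp i j t := by
    funext k
    rw [Equiv.swap_inv]
    by_cases hki : k = i
    · subst hki
      rw [Equiv.swap_apply_left]
      simp [wp, hp, hij.symm]
    · by_cases hkj : k = j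
      · subst hkj
        rw [Equiv.swap_apply_right]
        simp [wp, hp, hki]
      · rw [Equiv.swap_apply_of_ne_of_ne hki hkj]
        simp [wp, hp, hki, hkj]
  unfold Hd
  exact e2 ▸ h

end mono

end Cfsg.Agent.Helper96.StN
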