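import Mathlib
import Cfsg.Agent.Helper96.StN.RankOne

/-!
# Conjugating `w_kl(u)` and `h_kl(u)` by monomial elements
-/

set_option autoImplicit false

namespace Cfsg.Agent.Helper96.StN

universe u v w

variable {K : Type u} [Field K] {D : Type v} [Group D] {ι : Type w} {X : ι → ι → K → D}

theorem IsMono.conj_W {g : D} {π : Equiv.Perm ι} {pp : ι → K} (hm : IsMono X g π pp)
    {k l : ι} (hkl : k ≠ l) (u : K) :
    g * W X k l u * g⁻¹ = W X (π k) (π l) (pp k * (pp l)⁻¹ * u) := by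
  have e : g * W X k l u * g⁻¹ =
      (g * X k l u * g⁻¹) * (g * X l k (-u⁻¹) * g⁻¹) * (g * X k l u * g⁻¹) := by
    unfold W; group
  rw [e, hm.2 k l hkl, hm.2 l k hkl.symm]
  unfold W
  congr 2
  have h1 := hm.1 k; have h2 := hm.1 l
  rw [mul_inv, mul_inv, inv_inv]
  ring

theorem W_eq_Hd_mul (i j : ι) (t : K) : W X i j t = Hd X i j t * W X i j 1 := by
  unfold Hd; group

variable [Fintype K] [DecidableEq ι] (hX : StRel X) (h3 : ∀ i j : ι, ∃ k, k ≠ i ∧ k ≠ j)

include hX h3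

/-- `w_ij(c) w_ij(c')⁻¹ = h_ij(c / c')` -/
theorem W_mul_W_inv {i j : ι} (hij : i ≠ j) {c c' : K} (hc : c ≠ 0) (hc' : c' ≠ 0) :
    W X i j c * (W X i j c')⁻¹ = Hd X i j (c * c'⁻¹) := by
  rw [W_eq_Hd_mul i j c, W_eq_Hd_mul i j c', mul_inv_rev, mul_assoc, mul_inv_cancel_left,
    Hd_inv hX h3 hij hc', ← Hd_mul hX h3 hij hc (inv_ne_zero hc')]

/-- a monomial element conjugates `h_kl(u)` to `h_(πk)(πl)(u)` -/
theorem IsMono.conj_Hd {g : D} {π : Equiv.Perm ι} {pp : ι → K} (hm : IsMono X g π pp)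
    {k l : ι} (hkl : k ≠ l) {u : K} (hu : u ≠ 0) :
    g * Hd X k l u * g⁻¹ = Hd X (π k) (π l) u := by
  have e : g * Hd X k l u * g⁻¹ = (g * W X k l u * g⁻¹) * (g * W X k l 1 * g⁻¹)⁻¹ := by
    unfold Hd; group
  have hc : pp k * (pp l)⁻¹ ≠ 0 := mul_ne_zero (hm.1 k) (inv_ne_zero (hm.1 l))
  have hkl' : π k ≠ π l := fun e => hkl (π.injective e)
  rw [e, hm.conj_W hkl, hm.conj_W hkl, W_mul_W_inv hX h3 hkl' (mul_ne_zero hc hu)
    (mul_ne_zero hc one_ne_zero)]
  congr 1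
  have h1 := hm.1 k; have h2 := hm.1 l
  field_simp

theorem Hd_commute {i j k l : ι} (hij : i ≠ j) (hkl : k ≠ l) {t u : K} (ht : t ≠ 0) (hu : u ≠ 0) :
    Commute (Hd X i j t) (Hd X k l u) := by
  have h := (Hd_isMono hX h3 hij ht).conj_Hd hX h3 hkl hu
  rw [Equiv.Perm.one_apply, Equiv.Perm.one_apply] at h
  exact mul_inv_eq_iff_eq_mul.mp h

/-- the torus subgroup is commutative -/
theorem Hsub_commute {a b : D} (ha : a ∈ Hsub X) (hb : b ∈ Hsub X) : Commute a b := by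
  have key : ∀ a ∈ Hsub X, ∀ k l, k ≠ l → ∀ u : K, u ≠ 0 → Commute a (Hd X k l u) := by
    intro a ha k l hkl u hu
    induction ha using Subgroup.closure_induction with
    | mem g hg =>
      obtain ⟨i, j, hij, t, ht, rfl⟩ := hg
      exact Hd_commute hX h3 hij hkl ht hu
    | one => exact Commute.one_left _
    | mul x y _ _ hx hy => exact hx.mul_left hy
    | inv x _ hx => exact hx.inv_left
  induction hb using Subgroup.closure_induction with
  | mem g hg =>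
    obtain ⟨k, l, hkl, u, hu, rfl⟩ := hg
    exact key a ha k l hkl u hu
  | one => exact Commute.one_right _
  | mul x y _ _ hx hy => exact hx.mul_right hy
  | inv x _ hx => exact hx.inv_right

/-- every element of the torus subgroup is monomial with trivial permutation -/
theorem Hsub_isMono {a : D} (ha : a ∈ Hsub X) : ∃ pp, IsMono X a 1 pp := by
  induction ha using Subgroup.closure_induction with
  | mem g hg =>
    obtain ⟨i, j, hij, t, ht, rfl⟩ := hg
    exact ⟨_, Hd_isMono hX h3 hij ht⟩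
  | one => exact ⟨_, IsMono.one X⟩
  | mul a b _ _ ha hb =>
    obtain ⟨pa, hpa⟩ := ha
    obtain ⟨pb, hpb⟩ := hb
    have := hpa.mul hpb
    rw [mul_one] at this
    exact ⟨_, this⟩
  | inv a _ ha =>
    obtain ⟨pa, hpa⟩ := ha
    have := hpa.inv
    rw [inv_one] at this
    exact ⟨_, this⟩

/-- the coroot relation `h_il(t) = h_jl(t) h_ij(t)` -/
theorem Hd_chain {i j l : ι} (hij : i ≠ j) (hjl : j ≠ l) (hil : i ≠ l) {t : K} (ht : t ≠ 0) :
    Hd X i l t = Hd X j l t * Hd X i j t := by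
  have hw := W_isMono hX h3 hjl (one_ne_zero (α := K))
  have h1 := hw.conj_Hd hX h3 hij ht
  rw [Equiv.swap_apply_of_ne_of_ne hij hil, Equiv.swap_apply_left] at h1
  have h2 := (Hd_isMono hX h3 hij ht).conj_W hjl (1 : K)
  rw [Equiv.Perm.one_apply, Equiv.Perm.one_apply] at h2
  have e3 : hp i j t j * (hp i j t l)⁻¹ * 1 = t⁻¹ := by
    simp [hp, hij.symm, hil.symm, hjl.symm]
  rw [e3] at h2
  -- `w h w⁻¹ h⁻¹ = w (h w h⁻¹)⁻¹`
  have h4 : W X j l 1 * Hd X i j t * (W X j l 1)⁻¹ * (Hd X i j t)⁻¹ =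
      W X j l 1 * (Hd X i j t * W X j l 1 * (Hd X i j t)⁻¹)⁻¹ := by group
  rw [h1, h2, W_mul_W_inv hX h3 hjl one_ne_zero (inv_ne_zero ht), one_mul, inv_inv] at h4
  rw [← h4, inv_mul_cancel_right]

end Cfsg.Agent.Helper96.StN
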